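import Mathlib

/-!
# Linear groups transitive on planes: orbit counts; the order of semilinear groups
-/

set_option autoImplicit false
set_option linter.style.haveILetI false

namespace Cfsg.Agent.Involutions.EqualOrderConj.Count

variable {p : ℕ} [hp : Fact p.Prime] {V : Type*} [AddCommGroup V] [Module (ZMod p) V]

theorem card_eq_pow_iff [Finite V] {n : ℕ} : Module.finrank (ZMod p) V = n ↔ Nat.card V = p ^ n := by
  rw [Module.natCard_eq_pow_finrank (K := ZMod p) (V := V), Nat.card_zmod]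
  exact ⟨fun h => by rw [h], fun h => Nat.pow_right_injective hp.out.two_le h⟩

/-- Ordered bases of planes. -/
theorem card_planes_mul [Finite V] {n : ℕ} (hV : Nat.card V = p ^ n) (hn : 2 ≤ n) :
    Nat.card {W : Submodule (ZMod p) V // Module.finrank (ZMod p) W = 2} * ((p ^ 2 - 1) * (p ^ 2 - p)) =
      (p ^ n - 1) * (p ^ n - p) := by
  classical
  haveI := Fintype.ofFinite V
  have hdim : Module.finrank (ZMod p) V = n := card_eq_pow_iff.2 hV
  set P := {W : Submodule (ZMod p) V // Module.finrank (ZMod p) W = 2}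
  let Φ : (Σ W : P, {s : Fin 2 → (W : Submodule (ZMod p) V) // LinearIndependent (ZMod p) s}) →
      {s : Fin 2 → V // LinearIndependent (ZMod p) s} := fun x =>
    ⟨fun i => (x.2.1 i : V), x.2.2.map' (x.1 : Submodule (ZMod p) V).subtype (Submodule.ker_subtype _)⟩
  have hspan : ∀ (W : P) (s : Fin 2 → (W : Submodule (ZMod p) V)), LinearIndependent (ZMod p) s →
      Submodule.span (ZMod p) (Set.range fun i => (s i : V)) = (W : Submodule (ZMod p) V) := by
    intro W s hs
    refine Submodule.eq_of_le_of_finrank_eq (Submodule.span_le.2 ?_) ?_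
    · rintro _ ⟨i, rfl⟩
      exact (s i).2
    · exact ((finrank_span_eq_card (hs.map' (W : Submodule (ZMod p) V).subtype
        (Submodule.ker_subtype _))).trans (Fintype.card_fin 2)).trans W.2.symm
  have hbij : Function.Bijective Φ := by
    refine ⟨?_, ?_⟩
    · rintro ⟨W, s, hs⟩ ⟨W', s', hs'⟩ e
      have e' : (fun i => (s i : V)) = fun i => (s' i : V) := congrArg Subtype.val e
      obtain rfl : W = W' := Subtype.ext (by rw [← hspan W s hs, ← hspan W' s' hs', e'])
      obtain rfl : s = s' := funext fun i => Subtype.ext (congrFun e' i)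
      rfl
    · rintro ⟨s, hs⟩
      refine ⟨⟨⟨Submodule.span (ZMod p) (Set.range s), by rw [finrank_span_eq_card hs, Fintype.card_fin]⟩,
        ⟨fun i => ⟨s i, Submodule.subset_span ⟨i, rfl⟩⟩, ?_⟩⟩, rfl⟩
      exact LinearIndependent.of_comp (Submodule.span (ZMod p) (Set.range s)).subtype hs
  have h1 := Nat.card_eq_of_bijective Φ hbij
  have hfib : ∀ W : P, Nat.card {s : Fin 2 → (W : Submodule (ZMod p) V) // LinearIndependent (ZMod p) s}
      = (p ^ 2 - 1) * (p ^ 2 - p) := by
    intro W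
    rw [card_linearIndependent W.2.ge, Fin.prod_univ_two, W.2, ZMod.card]
    simp
  haveI := Fintype.ofFinite P
  rw [Nat.card_sigma, Finset.sum_const_nat (fun W _ => hfib W), Finset.card_univ,
    ← Nat.card_eq_fintype_card, card_linearIndependent (hdim ▸ hn), Fin.prod_univ_two, hdim,
    ZMod.card] at h1
  simpa using h1

/-- A group transitive on planes which contains the scalars. -/
theorem card_planes_dvd [Finite V] (H : Subgroup (V ≃ₗ[ZMod p] V))
    (htr : ∀ W W' : Submodule (ZMod p) V, Module.finrank (ZMod p) W = 2 → Module.finrank (ZMod p) W' = 2 →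
      ∃ h ∈ H, W.map (h : V →ₗ[ZMod p] V) = W')
    (hsc : ∀ c : (ZMod p)ˣ, ∃ h ∈ H, ∀ v : V, h v = (c : ZMod p) • v)
    {W₀ : Submodule (ZMod p) V} (h₀ : Module.finrank (ZMod p) W₀ = 2) :
    Nat.card {W : Submodule (ZMod p) V // Module.finrank (ZMod p) W = 2} * (p - 1) ∣ Nat.card H := by
  classical
  haveI : Finite (V ≃ₗ[ZMod p] V) := Finite.of_injective _ DFunLike.coe_injective
  set P := {W : Submodule (ZMod p) V // Module.finrank (ZMod p) W = 2}
  letI : MulAction H P :=
    { smul := fun h W => ⟨W.1.map ((h : V ≃ₗ[ZMod p] V) : V →ₗ[ZMod p] V), by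
        rw [LinearEquiv.finrank_map_eq]; exact W.2⟩
      one_smul := fun W => Subtype.ext (by
        show W.1.map (((1 : H) : V ≃ₗ[ZMod p] V) : V →ₗ[ZMod p] V) = W.1
        exact Submodule.map_id W.1)
      mul_smul := fun a b W => Subtype.ext (by
        show W.1.map (((a * b : H) : V ≃ₗ[ZMod p] V) : V →ₗ[ZMod p] V) =
          (W.1.map ((b : V ≃ₗ[ZMod p] V) : V →ₗ[ZMod p] V)).map ((a : V ≃ₗ[ZMod p] V) : V →ₗ[ZMod p] V)
        rw [← Submodule.map_comp]
        rfl) }
  haveI : MulAction.IsPretransitive H P := ⟨fun W W' => by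
    obtain ⟨h, hh, e⟩ := htr W.1 W'.1 W.2 W'.2
    exact ⟨⟨h, hh⟩, Subtype.ext e⟩⟩
  have h1 := (MulAction.stabilizer H (⟨W₀, h₀⟩ : P)).index_mul_card
  rw [MulAction.index_stabilizer_of_transitive] at h1
  rw [← h1]
  refine Nat.mul_dvd_mul_left _ ?_
  -- the scalars fix every plane
  obtain ⟨v, hv⟩ : ∃ v : V, v ≠ 0 := by
    by_contra! hv
    have : W₀ = ⊥ := (Submodule.eq_bot_iff _).2 fun x _ => hv x
    rw [this, finrank_bot] at h₀
    omega
  choose σ hσH hσ using hsc
  let f : (ZMod p)ˣ →* H := MonoidHom.mk' (fun c => ⟨σ c, hσH c⟩) fun a b => Subtype.ext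
    (LinearEquiv.ext fun x => by
      show σ (a * b) x = σ a (σ b x)
      rw [hσ, hσ, hσ, Units.val_mul, mul_smul])
  have hf : Function.Injective f := by
    intro a b e
    have e1 : σ a v = σ b v := congrArg (fun h : H => (h : V ≃ₗ[ZMod p] V) v) e
    rw [hσ, hσ] at e1
    exact Units.ext (smul_left_injective _ hv e1)
  have hrange : f.range ≤ MulAction.stabilizer H (⟨W₀, h₀⟩ : P) := by
    rintro _ ⟨c, rfl⟩
    refine Subtype.ext ?_
    show W₀.map ((σ c : V ≃ₗ[ZMod p] V) : V →ₗ[ZMod p] V) = W₀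
    refine Submodule.eq_of_le_of_finrank_eq ?_ (LinearEquiv.finrank_map_eq _ _)
    rintro _ ⟨x, hx, rfl⟩
    show σ c x ∈ W₀
    rw [hσ]
    exact W₀.smul_mem _ hx
  have h2 : Nat.card f.range = p - 1 := by
    rw [← Nat.card_congr (MonoidHom.ofInjective hf).toEquiv, Nat.card_eq_fintype_card,
      ZMod.card_units]
  exact h2 ▸ Subgroup.card_dvd_of_le hrange

theorem card_ringAut {F : Type*} [Field F] [Finite F] {n : ℕ} (hF : Nat.card F = p ^ n) (hn : n ≠ 0) :
    Nat.card (F ≃+* F) = n := by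
  haveI := Fintype.ofFinite F
  haveI : CharP F p := by
    obtain ⟨q, hq⟩ := CharP.exists F
    obtain ⟨m, hqp, hm⟩ := FiniteField.card F q
    have h : q ∣ p ^ n := hF ▸ Nat.card_eq_fintype_card (α := F) ▸ hm.symm ▸ dvd_pow_self q m.pos.ne'
    rwa [← (Nat.prime_dvd_prime_iff_eq hqp hp.out).1 (hqp.dvd_of_dvd_pow h)]
  letI : Algebra (ZMod p) F := ZMod.algebra F p
  have hfr : Module.finrank (ZMod p) F = n := card_eq_pow_iff.2 hF
  rw [← hfr, ← IsGalois.card_aut_eq_finrank (ZMod p) F]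
  exact Nat.card_congr
    { toFun := fun σ => AlgEquiv.ofRingEquiv (f := σ) fun c =>
        RingHom.congr_fun (Subsingleton.elim (σ.toRingHom.comp (algebraMap (ZMod p) F)) (algebraMap (ZMod p) F)) c
      invFun := fun σ => σ.toRingEquiv
      left_inv := fun σ => RingEquiv.ext fun x => rfl
      right_inv := fun σ => AlgEquiv.ext fun x => rfl }

/-- A group of semilinear maps of the line over a field with `p ^ n` elements. -/
theorem card_semilinear_le [Finite V] (H : Subgroup (V ≃ₗ[ZMod p] V)) {F : Type*} [Field F] [Finite F]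
    (e : V ≃+ F) {n : ℕ} (hV : Nat.card V = p ^ n) (hn : n ≠ 0)
    (hH : ∀ h : H, ∃ (a : F) (σ : F ≃+* F), ∀ v : V, e ((h : V ≃ₗ[ZMod p] V) v) = a * σ (e v)) :
    Nat.card H ≤ (p ^ n - 1) * n := by
  haveI := Fintype.ofFinite F
  have hF : Nat.card F = p ^ n := (Nat.card_congr e.toEquiv).symm.trans hV
  haveI : Finite (F ≃+* F) := Finite.of_injective _ DFunLike.coe_injective
  choose a σ hH using hH
  have ha : ∀ h, a h ≠ 0 := by
    intro h h0
    have h1 := hH h (e.symm 1)
    rw [h0, zero_mul, EmbeddingLike.map_eq_zero_iff, EmbeddingLike.map_eq_zero_iff,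
      EmbeddingLike.map_eq_zero_iff] at h1
    exact one_ne_zero h1
  have hinj : Function.Injective (fun h : H => ((Units.mk0 (a h) (ha h), σ h) : Fˣ × (F ≃+* F))) := by
    intro g h eq
    simp only [Prod.mk.injEq, Units.ext_iff, Units.val_mk0] at eq
    refine Subtype.ext (LinearEquiv.ext fun v => e.injective ?_)
    rw [hH, hH, eq.1, eq.2]
  refine (Nat.card_le_card_of_injective _ hinj).trans ?_
  rw [Nat.card_prod, Nat.card_units, hF, card_ringAut hF hn]

/-- The numerical restrictions. -/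
theorem numeric {n k : ℕ} (hn : 4 ≤ n) (hk : k * ((p ^ 2 - 1) * (p ^ 2 - p)) = (p ^ n - 1) * (p ^ n - p))
    {h : ℕ} (hkh : k * (p - 1) ≤ h) (hh : h ≤ (p ^ n - 1) * n) :
    (n = 4 ∧ (p = 2 ∨ p = 3)) ∨ (n = 5 ∧ p = 2) := by
  have h2 := hp.out.two_le
  obtain ⟨m, rfl⟩ : ∃ m, n = m + 1 := ⟨n - 1, by omega⟩
  have hpos : 0 < p ^ (m + 1) - 1 := by
    have : 1 < p ^ (m + 1) := Nat.one_lt_pow (by omega) (by omega)
    omega
  have e1 : p ^ (m + 1) - p = p * (p ^ m - 1) := by rw [Nat.mul_sub, mul_one, pow_succ']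
  have e2 : p ^ 2 - p = p * (p - 1) := by rw [Nat.mul_sub, mul_one, sq]
  rw [e1, e2] at hk
  have e3 : p * ((p ^ 2 - 1) * (k * (p - 1))) = p * ((p ^ (m + 1) - 1) * (p ^ m - 1)) := by
    calc _ = k * ((p ^ 2 - 1) * (p * (p - 1))) := by ring
      _ = _ := by rw [hk]; ring
  have e4 := Nat.eq_of_mul_eq_mul_left (by omega : 0 < p) e3
  have e5 : (p ^ (m + 1) - 1) * (p ^ m - 1) ≤ (p ^ (m + 1) - 1) * ((p ^ 2 - 1) * (m + 1)) := by
    rw [← e4]
    calc (p ^ 2 - 1) * (k * (p - 1)) ≤ (p ^ 2 - 1) * ((p ^ (m + 1) - 1) * (m + 1)) :=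
          Nat.mul_le_mul_left _ (hkh.trans hh)
      _ = _ := by ring
  have e6 := Nat.le_of_mul_le_mul_left e5 hpos
  have hsq : 1 ≤ p ^ 2 := Nat.one_le_pow _ _ hp.out.pos
  have hm3 : 3 ≤ m := by omega
  rcases Nat.lt_or_ge m 5 with hm | hm
  · interval_cases m
    · refine Or.inl ⟨rfl, ?_⟩
      have : p < 5 := by
        by_contra hge
        have : 5 * p ^ 2 ≤ p ^ 3 := by rw [pow_succ' p 2]; exact Nat.mul_le_mul_right _ (by omega)
        omega
      interval_cases p
      · exact Or.inl rfl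
      · exact Or.inr rfl
      · exact absurd hp.out (by norm_num)
    · refine Or.inr ⟨rfl, ?_⟩
      by_contra hne
      have : 9 ≤ p ^ 2 := by nlinarith [show 3 ≤ p by omega]
      have : 9 * p ^ 2 ≤ p ^ 4 := by rw [show p ^ 4 = p ^ 2 * p ^ 2 by ring]; exact Nat.mul_le_mul_right _ this
      omega
  · exfalso
    obtain ⟨j, rfl⟩ : ∃ j, m = j + 5 := ⟨m - 5, by omega⟩
    have hgrow : j + 6 < 2 ^ (j + 3) := by
      have := Nat.lt_two_pow_self (n := j)
      have hone := Nat.one_le_two_pow (n := j)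
      rw [pow_add]
      omega
    have : 2 ^ (j + 3) ≤ p ^ (j + 3) := Nat.pow_le_pow_left h2 _
    have h7 : p ^ 2 * (j + 7) ≤ p ^ (j + 5) := by
      rw [show p ^ (j + 5) = p ^ 2 * p ^ (j + 3) by rw [← pow_add]; ring_nf]
      exact Nat.mul_le_mul_left _ (by omega)
    have h8 : (p ^ 2 - 1) * (j + 5 + 1) + (j + 6) = p ^ 2 * (j + 6) := by
      calc _ = (p ^ 2 - 1 + 1) * (j + 6) := by ring
        _ = _ := by rw [Nat.sub_add_cancel hsq]
    have h9 : p ^ 2 * (j + 7) = p ^ 2 * (j + 6) + p ^ 2 := by ring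
    omega

end Cfsg.Agent.Involutions.EqualOrderConj.Count
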