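import Mathlib
import Cfsg.Agent.Lib.Perm.TransLinear.Main

/-!
# Solvable transitive linear groups on a space of 81 vectors

Such a group is semilinear of dimension one or has order prime to 13.
-/

set_option autoImplicit false
set_option linter.style.haveILetI false

namespace Cfsg.Agent.Involutions.EqualOrderConj.Thirteen

open Cfsg.Agent.Perm.TransLinear
open Cfsg.Agent.Perm.NearField (Inv Irr endH alg endH_apply endH_injective finite_end finite_H)

variable {p : ℕ} [hp : Fact p.Prime] {V : Type*} [AddCommGroup V] [Module (ZMod p) V]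
variable {H : Subgroup (V ≃ₗ[ZMod p] V)}

theorem eq_self_of_dvd {n F : ℕ} (hn : n ∣ 32) (hF : F ∣ n) (h : F ≡ n [MOD 13]) : F = n := by
  have h1 : n ≤ 32 := Nat.le_of_dvd (by norm_num) hn
  have h2 : F ≤ n := Nat.le_of_dvd (Nat.pos_of_ne_zero (fun e => by subst e; norm_num at hn)) hF
  have key : ∀ n ≤ 32, ∀ F ≤ n, n ∣ 32 → F ∣ n → F % 13 = n % 13 → F = n := by decide
  exact key n h1 F h2 hn hF h

/-- An element of order `13` centralises a normal subgroup of order dividing `32`. -/
theorem commute_of_card {G : Type*} [Group G] [Finite G] (N : Subgroup G) [N.Normal]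
    (hN : Nat.card N ∣ 32) {x : G} (hx : orderOf x = 13) {y : G} (hy : y ∈ N) : x * y = y * x := by
  classical
  haveI : Fact (Nat.Prime 13) := ⟨by norm_num⟩
  set L := Subgroup.zpowers x
  have hL : IsPGroup 13 L := IsPGroup.of_card (n := 1) (by rw [Nat.card_zpowers, hx, pow_one])
  let φ : L →* MulAut N := (MulAut.conjNormal (H := N)).comp L.subtype
  letI : MulAction L N := MulAction.compHom N φ
  have hsmul : ∀ (l : L) (z : N), ((l • z : N) : G) = (l : G) * z * (l : G)⁻¹ := fun l z =>
    MulAut.conjNormal_apply (H := N) (l : G) z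
  have hmem : ∀ z : N, z ∈ MulAction.fixedPoints L N ↔ (z : G) ∈ N ⊓ Subgroup.centralizer {x} := by
    intro z
    constructor
    · intro h
      refine ⟨z.2, Subgroup.mem_centralizer_singleton_iff.2 ?_⟩
      have h1 := congrArg Subtype.val (h ⟨x, Subgroup.mem_zpowers x⟩)
      rw [hsmul] at h1
      exact (mul_inv_eq_iff_eq_mul.1 h1).symm
    · intro h l
      refine Subtype.ext ?_
      rw [hsmul, mul_inv_eq_iff_eq_mul]
      obtain ⟨j, hj⟩ := Subgroup.mem_zpowers_iff.1 l.2
      rw [← hj]
      exact ((show Commute x (z : G) from (Subgroup.mem_centralizer_singleton_iff.1 h.2).symm).zpow_left j).eq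
  have hmod := hL.card_modEq_card_fixedPoints N
  have hcard : Nat.card (MulAction.fixedPoints L N) = Nat.card (N ⊓ Subgroup.centralizer {x} : Subgroup G) :=
    Nat.card_congr
      { toFun := fun z => ⟨(z : N), (hmem z).1 z.2⟩
        invFun := fun z => ⟨⟨z, z.2.1⟩, (hmem ⟨z, z.2.1⟩).2 z.2⟩
        left_inv := fun z => rfl
        right_inv := fun z => rfl }
  rw [hcard] at hmod
  have heq := eq_self_of_dvd hN (Subgroup.card_dvd_of_le inf_le_left) hmod.symm
  have hle : N ≤ Subgroup.centralizer {x} := by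
    have h' : N ⊓ Subgroup.centralizer {x} = N :=
      Subgroup.eq_of_le_of_card_ge inf_le_left heq.ge
    exact h' ▸ inf_le_right
  exact (Subgroup.mem_centralizer_singleton_iff.1 (hle hy)).symm

theorem semilinear_or_not_dvd [Finite V] [Nontrivial V] (hp3 : p = 3) (hV : Nat.card V = 81)
    (hT : Trans H) (hsolv : Group.IsSolvable H) :
    (∃ (F : Type) (_ : Field F) (_ : Fintype F) (e : V ≃+ F),
      ∀ h : H, ∃ (a : F) (σ : F ≃+* F), ∀ v : V, e ((h : V ≃ₗ[ZMod p] V) v) = a * σ (e v)) ∨
      ¬ 13 ∣ Nat.card H := by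
  classical
  haveI := finite_H (H := H)
  subst hp3
  obtain ⟨A, ⟨hAn, hAc⟩, hAmax'⟩ := wellFounded_gt.has_min
    {A : Subgroup H | A.Normal ∧ IsMulCommutative A} ⟨⊥, inferInstance, inferInstance⟩
  have hAmax : ∀ B : Subgroup H, B.Normal → IsMulCommutative B → A ≤ B → B = A :=
    fun B hB hBc hle => (hle.eq_or_lt.resolve_right (hAmax' B ⟨hB, hBc⟩)).symm
  haveI := hAn
  obtain ⟨W, -, hW⟩ := Cfsg.Agent.Perm.NearField.exists_irr_le (A := A) Cfsg.Agent.Perm.NearField.inv_top
    (top_ne_bot (α := Submodule (ZMod 3) V))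
  by_cases hWt : W = ⊤
  · exact Or.inl (semilinear_of_irr hT hAn hAc (hWt ▸ hW))
  right
  set k := Module.finrank (ZMod 3) W
  have hk : 0 < k := by
    haveI : Nontrivial W := Submodule.nontrivial_iff_ne_bot.2 hW.2.1
    exact Module.finrank_pos
  have hK : Nat.card (alg A) = 3 ^ k := by
    rw [card_alg hT hAn hAc hW, Module.natCard_eq_pow_finrank (K := ZMod 3) (V := W), Nat.card_zmod]
  have hdim : Module.finrank (ZMod 3) V = 4 := by
    have h := Module.natCard_eq_pow_finrank (K := ZMod 3) (V := V)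
    rw [hV, Nat.card_zmod, show (81 : ℕ) = 3 ^ 4 by norm_num] at h
    exact (Nat.pow_right_injective (by norm_num) h).symm
  obtain ⟨m, hkm⟩ : ∃ m, k * m = 4 := by
    letI : CommRing (alg A) :=
      { (inferInstance : Ring (alg A)) with
        mul_comm := fun x y => Subtype.ext (Cfsg.Agent.Perm.NearField.alg_comm hAc x.2 y.2) }
    haveI : IsDomain (alg A) := alg_isDomain hT hAn hAc
    haveI := finite_end (p := 3) (V := V)
    have := Fintype.ofFinite (alg A)
    letI : Field (alg A) := Fintype.fieldOfDomain (alg A)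
    refine ⟨Module.finrank (alg A) V, ?_⟩
    have h := Module.natCard_eq_pow_finrank (K := alg A) (V := V)
    rw [hK, hV, show (81 : ℕ) = 3 ^ 4 by norm_num, ← pow_mul] at h
    exact (Nat.pow_right_injective (by norm_num) h).symm
  have hk4 : k < 4 := hdim ▸ Submodule.finrank_lt hWt
  have hk2 : k = 1 ∧ m = 4 ∨ k = 2 ∧ m = 2 := by
    interval_cases k <;> omega
  have hVp : Nat.card V = 3 ^ (k * m) := by rw [hkm, hV]; norm_num
  have hAd : Nat.card A ∣ 3 ^ k - 1 := card_dvd_sub_one hT hAn hAc hK
  have hC : Subgroup.centralizer (A : Set H) ≠ A := by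
    intro hC
    have h1 := Nat.le_of_dvd Nat.card_pos (card_dvd_of_trans hT)
    rw [← A.index_mul_card, hV] at h1
    have h2 : A.index ≤ k := Nat.le_of_dvd hk (hC ▸ galois_index hT hAn hAc hK)
    rcases hk2 with ⟨hk1, -⟩ | ⟨hk1, -⟩ <;> rw [hk1] at hAd h2 <;>
      have h3 := Nat.le_of_dvd (by norm_num) hAd <;>
      have h4 := Nat.mul_le_mul h2 h3 <;> norm_num at h4 <;> omega
  obtain ⟨N, r, hNn, hNA, hs, hrA⟩ := exists_layer hT hsolv hAn hAc hAmax hC
  haveI := hNn
  obtain ⟨hbound, -⟩ := layer_bound hT hAn hAc hs hk hK hVp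
  obtain ⟨d, hd⟩ := hs.square N hs.le le_rfl hs.radical
  have hr2 : r = 2 := by
    have h := hrA.trans hAd
    rcases hk2 with ⟨hk1, -⟩ | ⟨hk1, -⟩ <;> rw [hk1] at h
    · exact (Nat.prime_dvd_prime_iff_eq hs.prime Nat.prime_two).1 h
    · exact (Nat.prime_dvd_prime_iff_eq hs.prime Nat.prime_two).1
        (hs.prime.dvd_of_dvd_pow (show r ∣ 2 ^ 3 from h))
  have hN : Nat.card N ∣ 32 := by
    have hcard : Nat.card N = A.relIndex N * Nat.card A := by
      rw [Subgroup.relIndex, ← Nat.card_congr (Subgroup.subgroupOfEquivOfLe hs.le).toEquiv,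
        Subgroup.index_mul_card]
    rw [hd, hr2] at hcard hbound
    rw [hcard]
    rcases hk2 with ⟨hk1, hm⟩ | ⟨hk1, hm⟩ <;> rw [hk1] at hAd <;> rw [hm] at hbound
    · have : 2 * d ≤ 4 := (Nat.pow_le_pow_iff_right (show 1 < 2 by norm_num)).1 hbound
      exact (Nat.mul_dvd_mul (pow_dvd_pow 2 this) hAd).trans (by norm_num)
    · have : 2 * d ≤ 2 := (Nat.pow_le_pow_iff_right (show 1 < 2 by norm_num)).1
        (hbound.trans (by norm_num))
      exact (Nat.mul_dvd_mul (pow_dvd_pow 2 this) hAd).trans (by norm_num)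
  intro h13
  haveI : Fact (Nat.Prime 13) := ⟨by norm_num⟩
  obtain ⟨x, hx⟩ := exists_prime_orderOf_dvd_card' 13 h13
  -- the fixed vectors of the element of order thirteen
  set L := Subgroup.zpowers x
  have hL : IsPGroup 13 L := IsPGroup.of_card (n := 1) (by rw [Nat.card_zpowers, hx, pow_one])
  letI : MulAction L V :=
    { smul := fun l v => endH H (l : H) v
      one_smul := fun v => by
        show endH H ((1 : L) : H) v = v
        rw [Subgroup.coe_one, map_one, Module.End.one_apply]
      mul_smul := fun a b v => by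
        show endH H ((a * b : L) : H) v = endH H (a : H) (endH H (b : H) v)
        rw [Subgroup.coe_mul, map_mul, Module.End.mul_apply] }
  set F : Submodule (ZMod 3) V := LinearMap.ker (endH H x - 1)
  have hF : ∀ v, v ∈ F ↔ endH H x v = v := fun v => by
    rw [LinearMap.mem_ker, LinearMap.sub_apply, Module.End.one_apply, sub_eq_zero]
  have hfp : ∀ v : V, v ∈ MulAction.fixedPoints L V ↔ v ∈ F := by
    intro v
    constructor
    · exact fun h => (hF v).2 (h ⟨x, Subgroup.mem_zpowers x⟩)
    · intro h l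
      obtain ⟨j, hj⟩ := mem_powers_iff_mem_zpowers.2 l.2
      show endH H (l : H) v = v
      rw [← hj]
      show endH H (x ^ j) v = v
      clear hj
      induction j with
      | zero => rw [pow_zero, map_one, Module.End.one_apply]
      | succ j ih => rw [pow_succ, map_mul, Module.End.mul_apply, (hF v).1 h, ih]
  have hmod := hL.card_modEq_card_fixedPoints V
  rw [Nat.card_congr (Equiv.subtypeEquivRight hfp), hV,
    Module.natCard_eq_pow_finrank (K := ZMod 3) (V := F), Nat.card_zmod] at hmod
  have hf : Module.finrank (ZMod 3) F = 1 := by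
    have hle := Submodule.finrank_le F
    rw [hdim] at hle
    have hne : F ≠ ⊤ := by
      intro e
      have hx1 : x = 1 := endH_injective (LinearMap.ext fun v => by
        rw [map_one, Module.End.one_apply]; exact (hF v).1 (e ▸ Submodule.mem_top))
      rw [hx1, orderOf_one] at hx
      norm_num at hx
    have hlt := hdim ▸ Submodule.finrank_lt hne
    unfold Nat.ModEq at hmod
    interval_cases h : Module.finrank (ZMod 3) F <;> first | rfl | omega | (norm_num at hmod)
  obtain ⟨⟨v, hvF⟩, hv0, hspan⟩ := finrank_eq_one_iff'.1 hf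
  have hv0' : v ≠ 0 := fun e => hv0 (Subtype.ext e)
  have hcommN : ∀ y ∈ N, x * y = y * x := fun y hy => commute_of_card N hN hx hy
  have hline : ∀ y ∈ N, ∃ c : ZMod 3, endH H y v = c • v := by
    intro y hy
    have hmem : endH H y v ∈ F := by
      rw [hF, ← Module.End.mul_apply, ← map_mul, hcommN y hy, map_mul, Module.End.mul_apply,
        (hF v).1 hvF]
    obtain ⟨c, hc⟩ := hspan ⟨_, hmem⟩
    exact ⟨c, (congrArg Subtype.val hc).symm⟩
  have hall : ∀ y ∈ N, ∀ w : V, ∃ c : ZMod 3, endH H y w = c • w := by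
    intro y hy w
    by_cases hw : w = 0
    · exact ⟨0, by rw [hw, map_zero, smul_zero]⟩
    obtain ⟨g, hg⟩ := hT v w hv0' hw
    have hg' : endH H g v = w := hg
    obtain ⟨c, hc⟩ := hline _ (hNn.conj_mem y hy g⁻¹)
    rw [inv_inv] at hc
    refine ⟨c, ?_⟩
    have h := congrArg (endH H g) hc
    rw [← Module.End.mul_apply, ← map_mul, map_smul, hg',
      show g * (g⁻¹ * y * g) = y * g by group, map_mul, Module.End.mul_apply, hg'] at h
    exact h
  apply hNA
  intro z hz
  refine hs.radical z hz fun y hy => endH_injective (LinearMap.ext fun w => ?_)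
  rw [map_mul, map_mul, Module.End.mul_apply, Module.End.mul_apply]
  obtain ⟨c, hc⟩ := hall z hz w
  obtain ⟨c', hc'⟩ := hall y hy w
  rw [hc', hc, map_smul, map_smul, hc, hc', smul_comm]

end Cfsg.Agent.Involutions.EqualOrderConj.Thirteen
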