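import Mathlib
import Cfsg.Agent.Lib.Involutions.EqualOrderConj.Count
import Cfsg.Agent.Lib.Involutions.EqualOrderConj.Thirteen

/-!
# Solvable linear groups transitive on lines and on planes
-/

set_option autoImplicit false
set_option linter.style.haveILetI false

namespace Cfsg.Agent.Involutions.EqualOrderConj.Linear

open Cfsg.Agent.Perm

variable {p : ℕ} [hp : Fact p.Prime] {V : Type*} [AddCommGroup V] [Module (ZMod p) V]

theorem eq_of_pow_eq {n q e : ℕ} (hq : q.Prime) (h : p ^ n = q ^ e) (he : e ≠ 0) : p = q ∧ n = e := by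
  have hd : q ∣ p ^ n := h ▸ dvd_pow_self q he
  obtain rfl := (Nat.prime_dvd_prime_iff_eq hq hp.out).1 (hq.dvd_of_dvd_pow hd)
  exact ⟨rfl, Nat.pow_right_injective hq.two_le h⟩

theorem classify [Finite V] (H : Subgroup (V ≃ₗ[ZMod p] V)) (hsolv : Group.IsSolvable H)
    (hT : TransLinear.Trans H)
    (htr : ∀ W W' : Submodule (ZMod p) V, Module.finrank (ZMod p) W = 2 → Module.finrank (ZMod p) W' = 2 →
      ∃ h ∈ H, W.map (h : V →ₗ[ZMod p] V) = W')
    (hsc : ∀ c : (ZMod p)ˣ, ∃ h ∈ H, ∀ v : V, h v = (c : ZMod p) • v)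
    {n : ℕ} (hV : Nat.card V = p ^ n) (hn : 3 ≤ n) :
    (∃ (F : Type) (_ : Field F) (_ : Fintype F) (e : V ≃+ F),
      ∀ h : H, ∃ (a : F) (σ : F ≃+* F), ∀ v : V, e ((h : V ≃ₗ[ZMod p] V) v) = a * σ (e v)) ∧
    (n = 3 ∨ (n = 5 ∧ p = 2 ∧ 155 ∣ Nat.card H)) := by
  classical
  have hdim : Module.finrank (ZMod p) V = n := Count.card_eq_pow_iff.2 hV
  haveI : Nontrivial V := Module.nontrivial_of_finrank_pos (R := ZMod p) (by omega)
  haveI := NearField.finite_H (H := H)
  obtain ⟨W₀, h₀⟩ : ∃ W₀ : Submodule (ZMod p) V, Module.finrank (ZMod p) W₀ = 2 := by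
    obtain ⟨f, hf⟩ := exists_linearIndependent_of_le_finrank (R := ZMod p) (M := V) (n := 2) (by omega)
    exact ⟨Submodule.span (ZMod p) (Set.range f), by rw [finrank_span_eq_card hf, Fintype.card_fin]⟩
  have hk := Count.card_planes_mul (p := p) hV (by omega)
  have hkd := Count.card_planes_dvd H htr hsc h₀
  set k := Nat.card {W : Submodule (ZMod p) V // Module.finrank (ZMod p) W = 2}
  have htd : p ^ n - 1 ∣ Nat.card H := hV ▸ TransLinear.card_dvd_of_trans hT
  have hsemi : ∃ (F : Type) (_ : Field F) (_ : Fintype F) (e : V ≃+ F),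
      ∀ h : H, ∃ (a : F) (σ : F ≃+* F), ∀ v : V, e ((h : V ≃ₗ[ZMod p] V) v) = a * σ (e v) := by
    rcases TransLinear.semilinear_or_small hT hsolv with h | h
    · exact h
    · rw [hV] at h
      have hcase : ∀ q, q.Prime → p ^ n = q ^ 2 → False := fun q hq e => by
        have := (eq_of_pow_eq hq e two_ne_zero).2
        omega
      simp only [Set.mem_insert_iff, Set.mem_singleton_iff] at h
      rcases h with h | h | h | h | h | h
      · exact (hcase 3 (by norm_num) (by rw [h]; norm_num)).elim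
      · exact (hcase 5 (by norm_num) (by rw [h]; norm_num)).elim
      · exact (hcase 7 (by norm_num) (by rw [h]; norm_num)).elim
      · exact (hcase 11 (by norm_num) (by rw [h]; norm_num)).elim
      · exact (hcase 23 (by norm_num) (by rw [h]; norm_num)).elim
      · obtain ⟨hp3, hn4⟩ := eq_of_pow_eq (q := 3) (e := 4) (by norm_num) (h.trans (by norm_num))
          (by norm_num)
        refine (Thirteen.semilinear_or_not_dvd hp3 (hV.trans h) hT hsolv).resolve_right fun h13 => h13 ?_
        rw [hp3, hn4] at hk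
        norm_num at hk
        have : k = 130 := by omega
        exact ((show 13 ∣ 130 * (p - 1) by exact Dvd.dvd.mul_right (by norm_num) _)).trans (this ▸ hkd)
  refine ⟨hsemi, ?_⟩
  obtain ⟨F, iF, iF', e, he⟩ := hsemi
  have hle := Count.card_semilinear_le H e hV (by omega) he
  rcases Nat.lt_or_ge n 4 with h4 | h4
  · exact Or.inl (by omega)
  rcases Count.numeric h4 hk (Nat.le_of_dvd Nat.card_pos hkd) hle with ⟨rfl, rfl | rfl⟩ | ⟨rfl, rfl⟩
  · exfalso
    norm_num at hk hle htd hkd
    have : k = 35 := by omega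
    rw [this] at hkd
    have h105 : 105 ∣ Nat.card H := Nat.Coprime.mul_dvd_of_dvd_of_dvd (by norm_num : Nat.Coprime 7 15)
      ((show 7 ∣ 35 by norm_num).trans hkd) htd
    have := Nat.le_of_dvd Nat.card_pos h105
    omega
  · exfalso
    norm_num at hk hle htd hkd
    have : k = 130 := by omega
    rw [this] at hkd
    have h1040 : 1040 ∣ Nat.card H := Nat.Coprime.mul_dvd_of_dvd_of_dvd (by norm_num : Nat.Coprime 13 80)
      ((show 13 ∣ 130 * 2 by norm_num).trans hkd) htd
    have := Nat.le_of_dvd Nat.card_pos h1040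
    omega
  · refine Or.inr ⟨rfl, rfl, ?_⟩
    norm_num at hk hkd
    have : k = 155 := by omega
    rwa [this] at hkd

end Cfsg.Agent.Involutions.EqualOrderConj.Linear
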