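import Mathlib
import Cfsg.Prelude.Def_Perm
import Cfsg.Prelude.Def_Solvable
import Cfsg.Agent.Lib.PLocal.Cores
import Cfsg.Agent.Lib.Involutions.EqualOrderConj.Linear

/-!
# An elementary abelian normal Sylow subgroup whose equal-order subgroups are conjugate

The quotient by the core of order prime to `p` is a group of semi-affine maps of a field.
-/

set_option autoImplicit false
set_option linter.style.haveILetI false

namespace Cfsg.Agent.Involutions.EqualOrderConj.Frame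

open Cfsg.Agent.Perm Cfsg.Agent.PLocal

section Field

variable (F : Type*) [Field F] [Finite F]

theorem natCard_affine : Nat.card (Cfsg.affineGroup F) = (Nat.card F - 1) * Nat.card F := by
  rw [← Nat.card_units, ← Nat.card_prod]
  refine (Nat.card_eq_of_bijective (fun x : Fˣ × F =>
    (⟨(Units.mulLeft x.1).trans (Equiv.addRight x.2), x.1, x.2, fun _ => rfl⟩ : Cfsg.affineGroup F))
    ⟨?_, ?_⟩).symm
  · rintro ⟨a, b⟩ ⟨a', b'⟩ h
    have h' := congrArg Subtype.val h
    have e0 : (a : F) * 0 + b = (a' : F) * 0 + b' := DFunLike.congr_fun h' 0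
    have e1 : (a : F) * 1 + b = (a' : F) * 1 + b' := DFunLike.congr_fun h' 1
    simp only [mul_zero, zero_add] at e0
    rw [e0, mul_one, mul_one, add_left_inj] at e1
    exact Prod.ext (Units.ext e1) e0
  · rintro ⟨σ, a, b, hσ⟩
    exact ⟨(a, b), Subtype.ext (Equiv.ext fun x => (hσ x).symm)⟩

theorem natCard_semiaffine :
    Nat.card (Cfsg.semiaffineGroup F) = (Nat.card F - 1) * Nat.card F * Nat.card (F ≃+* F) := by
  rw [← Nat.card_units, ← Nat.card_prod, ← Nat.card_prod]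
  refine (Nat.card_eq_of_bijective (fun x : (Fˣ × F) × (F ≃+* F) =>
    (⟨x.2.toEquiv.trans ((Units.mulLeft x.1.1).trans (Equiv.addRight x.1.2)), x.1.1, x.1.2, x.2,
      fun _ => rfl⟩ : Cfsg.semiaffineGroup F)) ⟨?_, ?_⟩).symm
  · rintro ⟨⟨a, b⟩, φ⟩ ⟨⟨a', b'⟩, φ'⟩ h
    have h' := congrArg Subtype.val h
    have e : ∀ x, (a : F) * φ x + b = (a' : F) * φ' x + b' := fun x => DFunLike.congr_fun h' x
    have e0 : b = b' := by simpa using e 0
    subst e0
    have e1 : a = a' := Units.ext (by simpa using e 1)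
    subst e1
    have e2 : φ = φ' := RingEquiv.ext fun x => by simpa using e x
    subst e2
    rfl
  · rintro ⟨σ, a, b, φ, hσ⟩
    exact ⟨((a, b), φ), Subtype.ext (Equiv.ext fun x => (hσ x).symm)⟩

/-- A semi-affine map whose order is prime to the number of field automorphisms is affine. -/
theorem mem_affine_of_pow {σ : Equiv.Perm F} (hσ : σ ∈ Cfsg.semiaffineGroup F) {j : ℕ}
    (hj : σ ^ j = 1) (hcop : Nat.Coprime j (Nat.card (F ≃+* F))) : σ ∈ Cfsg.affineGroup F := by
  obtain ⟨a, b, φ, hφ⟩ := hσ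
  haveI : Finite (F ≃+* F) := Finite.of_injective _ DFunLike.coe_injective
  have hi : ∀ i : ℕ, ∃ (c : Fˣ) (d : F), ∀ x, (σ ^ i) x = (c : F) * (φ ^ i) x + d := by
    intro i
    induction i with
    | zero => exact ⟨1, 0, fun x => by simp⟩
    | succ i ih =>
      obtain ⟨c, d, h⟩ := ih
      refine ⟨a * Units.map (φ : F →* F) c, (a : F) * φ d + b, fun x => ?_⟩
      rw [pow_succ', pow_succ', Equiv.Perm.mul_apply, h, hφ, RingAut.mul_apply]
      simp only [Units.val_mul, Units.coe_map, MonoidHom.coe_coe, map_add, map_mul, mul_add]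
      ring
  obtain ⟨c, d, h⟩ := hi j
  rw [hj] at h
  have hd : d = 0 := by simpa using (h 0).symm
  have hc : (c : F) = 1 := by simpa [hd] using (h 1).symm
  have hφj : φ ^ j = 1 := RingEquiv.ext fun x => by simpa [hd, hc] using (h x).symm
  have h1 : φ = 1 := by
    have := pow_gcd_eq_one.2 ⟨hφj, pow_card_eq_one' (x := φ)⟩
    rwa [hcop, pow_one] at this
  exact ⟨a, b, fun x => by rw [hφ, h1]; rfl⟩

end Field

theorem core {M : Type*} [Group M] [Finite M] {p : ℕ} [hp : Fact p.Prime] (P : Subgroup M) [hPn : P.Normal]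
    {V : Type*} [AddCommGroup V] [Module (ZMod p) V] [Finite V]
    (val : V → M) (hadd : ∀ a b, val (a + b) = val a * val b) (hinj : Function.Injective val)
    (hmem : ∀ a, val a ∈ P) (hsurj : ∀ x ∈ P, ∃ a, val a = x)
    (hPe : ∀ a ∈ P, a ^ p = 1) (hidx : ¬ p ∣ P.index) {n : ℕ} (hn : 3 ≤ n)
    (hcard : Nat.card P = p ^ n)
    (hconj : ∀ A B : Subgroup M, A ≤ P → B ≤ P → Nat.card A = Nat.card B →
      ∃ g : M, A.map (MulAut.conj g).toMonoidHom = B)
    (hsolv : Group.IsSolvable (M ⧸ Cfsg.pPrimeCore p M)) :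
    (n = 3 ∧ (∃ f : M ⧸ Cfsg.pPrimeCore p M →* ↥(Cfsg.semiaffineGroup (GaloisField p 3)), Function.Injective f) ∧
      (p = 2 → Nonempty (M ⧸ Cfsg.pPrimeCore p M ≃* Cfsg.semiaffineGroup (GaloisField 2 3)) ∨
               Nonempty (M ⧸ Cfsg.pPrimeCore p M ≃* Cfsg.affineGroup (GaloisField 2 3)))) ∨
    (n = 5 ∧ p = 2 ∧ Nonempty (M ⧸ Cfsg.pPrimeCore p M ≃* Cfsg.semiaffineGroup (GaloisField 2 5))) := by
  classical
  obtain ⟨K, hKdef⟩ : ∃ K, K = Cfsg.pPrimeCore p M := ⟨_, rfl⟩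
  haveI hKn : K.Normal := hKdef ▸ Cores.pPrimeCore_normal'
  have hKcop : (Nat.card K).Coprime p := hKdef ▸ Cores.coprime_card_pPrimeCore
  have hPpK : (Nat.card P).Coprime P.index := by
    rw [hcard]
    exact Nat.Coprime.pow_left n ((Nat.Prime.coprime_iff_not_dvd hp.out).2 hidx)
  have hKP : K ⊓ P = ⊥ := Subgroup.inf_eq_bot_of_coprime (by rw [hcard]; exact hKcop.pow_right n)
  -- the conjugation action as linear maps
  have hval0 : val 0 = 1 := mul_eq_left.1 (show val 0 * val 0 = val 0 by rw [← hadd, add_zero])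
  have hvaladd : ∀ a b, val a * val b = val b * val a := fun a b => by rw [← hadd, ← hadd, add_comm]
  let eP : V ≃ P := Equiv.ofBijective (fun a => ⟨val a, hmem a⟩)
    ⟨fun a b h => hinj (congrArg Subtype.val h), fun x => (hsurj x x.2).imp fun a ha => Subtype.ext ha⟩
  have hVcard : Nat.card V = p ^ n := (Nat.card_congr eP).trans hcard
  have hcvex : ∀ (g : M) (a : V), ∃ b, val b = g * val a * g⁻¹ := fun g a =>
    hsurj _ (hPn.conj_mem _ (hmem a) g)
  choose cv0 hcv0 using hcvex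
  let cv : M → (V →+ V) := fun g => AddMonoidHom.mk' (cv0 g) fun a b => hinj (by
    rw [hadd, hcv0, hcv0, hcv0, hadd]; group)
  have hcv : ∀ g a, val (cv g a) = g * val a * g⁻¹ := hcv0
  let lin : M → (V ≃ₗ[ZMod p] V) := fun g =>
    LinearEquiv.ofLinear ((cv g).toZModLinearMap p) ((cv g⁻¹).toZModLinearMap p)
      (LinearMap.ext fun a => hinj (by
        show val (cv g (cv g⁻¹ a)) = val a
        rw [hcv, hcv]; group))
      (LinearMap.ext fun a => hinj (by
        show val (cv g⁻¹ (cv g a)) = val a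
        rw [hcv, hcv]; group))
  have hlin : ∀ g a, val (lin g a) = g * val a * g⁻¹ := fun g a => hcv g a
  let ρ : M →* (V ≃ₗ[ZMod p] V) := MonoidHom.mk' lin fun g h =>
    LinearEquiv.ext fun a => hinj (by
      show val (lin (g * h) a) = val (lin g (lin h a))
      rw [hlin, hlin, hlin]; group)
  have hρK : K ≤ ρ.ker := fun x hx => LinearEquiv.ext fun a => hinj (by
    show val (lin x a) = val a
    rw [hlin, mul_inv_eq_iff_eq_mul]
    exact (Subgroup.commute_of_normal_of_disjoint K P hKn hPn (disjoint_iff.2 hKP) x _ hx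
      (hmem a)).eq)
  let ρb : M ⧸ K →* (V ≃ₗ[ZMod p] V) := QuotientGroup.lift K ρ hρK
  -- adjoin the scalars
  let sc : (ZMod p)ˣ →* (V ≃ₗ[ZMod p] V) :=
    MonoidHom.mk' (fun c => LinearEquiv.smulOfUnit c) fun a b => LinearEquiv.ext fun v => by
      show ((a * b : (ZMod p)ˣ) : ZMod p) • v = (a : ZMod p) • ((b : ZMod p) • v)
      rw [Units.val_mul, mul_smul]
  let Ψ : (ZMod p)ˣ × (M ⧸ K) →* (V ≃ₗ[ZMod p] V) :=
    MonoidHom.noncommCoprod sc ρb fun c g => LinearEquiv.ext fun v => by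
      show (c : ZMod p) • (ρb g v) = ρb g ((c : ZMod p) • v)
      rw [map_smul]
  have hΨ : ∀ (c : (ZMod p)ˣ) (g : M) (v : V), Ψ (c, (g : M ⧸ K)) v = (c : ZMod p) • lin g v := fun c g v => rfl
  set H := Ψ.range
  have hHsolv : Group.IsSolvable H := by
    haveI : Group.IsSolvable (M ⧸ K) := by subst hKdef; exact hsolv
    exact Group.isSolvable_of_surjective (f := Ψ.rangeRestrict) Ψ.rangeRestrict_surjective
  let sub : Submodule (ZMod p) V → Subgroup M := fun W =>
    { carrier := {x | ∃ a ∈ W, val a = x}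
      one_mem' := ⟨0, W.zero_mem, hval0⟩
      mul_mem' := by
        rintro _ _ ⟨a, ha, rfl⟩ ⟨b, hb, rfl⟩
        exact ⟨a + b, W.add_mem ha hb, hadd a b⟩
      inv_mem' := by
        rintro _ ⟨a, ha, rfl⟩
        exact ⟨-a, W.neg_mem ha, eq_inv_of_mul_eq_one_left (by rw [← hadd, neg_add_cancel, hval0])⟩ }
  have hsubP : ∀ W, sub W ≤ P := by
    rintro W _ ⟨a, -, rfl⟩
    exact hmem a
  have hsubmem : ∀ W a, val a ∈ sub W ↔ a ∈ W := fun W a =>
    ⟨fun ⟨b, hb, e⟩ => hinj e ▸ hb, fun h => ⟨a, h, rfl⟩⟩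
  have hsubcard : ∀ W, Nat.card (sub W) = Nat.card W := fun W =>
    (Nat.card_eq_of_bijective (fun a : W => (⟨val a, a, a.2, rfl⟩ : sub W))
      ⟨fun a b h => Subtype.ext (hinj (congrArg Subtype.val h)), fun ⟨_, a, ha, e⟩ =>
        ⟨⟨a, ha⟩, Subtype.ext e⟩⟩).symm
  have hmove : ∀ W W' : Submodule (ZMod p) (V), Nat.card W = Nat.card W' →
      ∃ g : M, W.map (ρ g : V →ₗ[ZMod p] V) = W' := by
    intro W W' h
    obtain ⟨g, hg⟩ := hconj (sub W) (sub W') (hsubP _) (hsubP _) (by rw [hsubcard, hsubcard, h])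
    refine ⟨g, le_antisymm ?_ fun w hw => ?_⟩
    · rintro _ ⟨a, ha, rfl⟩
      refine (hsubmem W' _).1 ?_
      show val (lin g a) ∈ sub W'
      rw [hlin, ← hg]
      exact ⟨val a, (hsubmem W a).2 ha, rfl⟩
    · have h1 : val w ∈ (sub W).map (MulAut.conj g).toMonoidHom := hg ▸ (hsubmem W' w).2 hw
      obtain ⟨y, ⟨z, hz, rfl⟩, e⟩ := h1
      exact ⟨z, hz, hinj ((hlin g z).trans e)⟩
  have hTrans : TransLinear.Trans H := by
    intro v w hv hw
    obtain ⟨g, hg⟩ := hmove (Submodule.span (ZMod p) {v}) (Submodule.span (ZMod p) {w}) (by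
      rw [Module.natCard_eq_pow_finrank (K := ZMod p) (V := Submodule.span (ZMod p) {v}),
        Module.natCard_eq_pow_finrank (K := ZMod p) (V := Submodule.span (ZMod p) {w}),
        finrank_span_singleton hv, finrank_span_singleton hw])
    have h1 : w ∈ (Submodule.span (ZMod p) {v}).map (ρ g : V →ₗ[ZMod p] V) :=
      hg ▸ Submodule.mem_span_singleton_self w
    obtain ⟨y, hy, e⟩ := h1
    obtain ⟨c, rfl⟩ := Submodule.mem_span_singleton.1 hy
    have hc : c ≠ 0 := by
      rintro rfl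
      rw [zero_smul, map_zero] at e
      exact hw e.symm
    refine ⟨⟨Ψ (Units.mk0 c hc, (g : M ⧸ K)), _, rfl⟩, ?_⟩
    show Ψ (Units.mk0 c hc, (g : M ⧸ K)) v = w
    rw [hΨ, Units.val_mk0, ← e, map_smul]
    rfl
  have htr2 : ∀ W W' : Submodule (ZMod p) (V), Module.finrank (ZMod p) W = 2 →
      Module.finrank (ZMod p) W' = 2 → ∃ h ∈ H, W.map (h : V →ₗ[ZMod p] V) = W' := by
    intro W W' h h'
    obtain ⟨g, hg⟩ := hmove W W' ((Count.card_eq_pow_iff.1 h).trans (Count.card_eq_pow_iff.1 h').symm)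
    refine ⟨Ψ (1, (g : M ⧸ K)), ⟨_, rfl⟩, ?_⟩
    rw [show Ψ (1, (g : M ⧸ K)) = ρ g from LinearEquiv.ext fun v => by
      rw [hΨ, Units.val_one, one_smul]; rfl]
    exact hg
  have hsc : ∀ c : (ZMod p)ˣ, ∃ h ∈ H, ∀ v : V, h v = (c : ZMod p) • v := fun c =>
    ⟨Ψ (c, ((1 : M) : M ⧸ K)), ⟨_, rfl⟩, fun v => by
      rw [hΨ]; exact congrArg _ (hinj (by rw [hlin, one_mul, inv_one, mul_one]))⟩
  obtain ⟨⟨F₀, _, _, e₀, he₀⟩, hcase⟩ := Linear.classify H hHsolv hTrans htr2 hsc hVcard hn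
  -- semilinearity of the conjugation action on a Galois field
  have hn0 : n ≠ 0 := by omega
  haveI : Fintype (GaloisField p n) := Fintype.ofFinite _
  have hF₀ : Nat.card F₀ = p ^ n := (Nat.card_congr e₀.toEquiv).symm.trans hVcard
  let θ : F₀ ≃+* GaloisField p n := FiniteField.ringEquivOfCardEq (by
    rw [← Nat.card_eq_fintype_card, hF₀, ← Nat.card_eq_fintype_card, GaloisField.card p n hn0])
  let e : V ≃+ GaloisField p n := e₀.trans θ.toAddEquiv
  have hsl : ∀ g : M, ∃ (a : (GaloisField p n)ˣ) (σ : GaloisField p n ≃+* GaloisField p n),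
      ∀ v, e (lin g v) = a * σ (e v) := by
    intro g
    obtain ⟨a, σ, h⟩ := he₀ ⟨Ψ (1, (g : M ⧸ K)), _, rfl⟩
    have ha : θ a ≠ 0 := by
      intro h0
      obtain ⟨v, hv⟩ : ∃ v, lin g v = e.symm 1 := ⟨(lin g).symm _, (lin g).apply_symm_apply _⟩
      have h1 := h v
      rw [EmbeddingLike.map_eq_zero_iff] at h0
      simp only [hΨ, Units.val_one, one_smul, hv, h0, zero_mul] at h1
      rw [EmbeddingLike.map_eq_zero_iff, EmbeddingLike.map_eq_zero_iff] at h1
      exact one_ne_zero h1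
    refine ⟨Units.mk0 _ ha, (θ.symm.trans σ).trans θ, fun v => ?_⟩
    have h1 := h v
    simp only [hΨ, Units.val_one, one_smul] at h1
    show θ (e₀ (lin g v)) = θ a * θ (σ (θ.symm (θ (e₀ v))))
    rw [h1, map_mul, RingEquiv.symm_apply_apply]
  -- a complement and the permutation action on its cosets
  obtain ⟨L, hL⟩ := Subgroup.exists_right_complement'_of_coprime hPpK
  let β : V → M ⧸ L := fun a => (val a : M ⧸ L)
  have hβ : Function.Bijective β := by
    refine ⟨fun a b h => ?_, fun q => ?_⟩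
    · have h1 : (val a)⁻¹ * val b ∈ P ⊓ L :=
        Subgroup.mem_inf.2 ⟨mul_mem (inv_mem (hmem a)) (hmem b), QuotientGroup.eq.1 h⟩
      rw [hL.disjoint.eq_bot, Subgroup.mem_bot, inv_mul_eq_one] at h1
      exact hinj h1
    · induction q using QuotientGroup.induction_on with | H g =>
      obtain ⟨⟨u, l⟩, hul, -⟩ := hL.existsUnique g
      obtain ⟨u', hu'⟩ := hsurj u u.2
      refine ⟨u', QuotientGroup.eq.2 ?_⟩
      have : ((u : M))⁻¹ * g = l := by rw [← hul]; simp
      rw [hu']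
      rw [this]; exact l.2
  let π : GaloisField p n ≃ M ⧸ L := e.symm.toEquiv.trans (Equiv.ofBijective β hβ)
  let f : M →* Equiv.Perm (GaloisField p n) :=
    (π.symm.permCongrHom.toMonoidHom).comp (MulAction.toPermHom M (M ⧸ L))
  have hπ : ∀ a, π (e a) = β a := fun a => by
    show β (e.symm (e a)) = β a
    rw [e.symm_apply_apply]
  have hf : ∀ g x, f g x = π.symm (g • π x) := fun g x => rfl
  have hfSA : ∀ g, f g ∈ Cfsg.semiaffineGroup (GaloisField p n) := by
    intro g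
    obtain ⟨⟨u, l⟩, hul, -⟩ := hL.existsUnique g
    obtain ⟨a, σ, hσ⟩ := hsl l
    obtain ⟨u', hu'⟩ := hsurj u u.2
    refine ⟨a, e u', σ, fun x => ?_⟩
    obtain ⟨v, rfl⟩ := e.surjective x
    rw [hf, Equiv.symm_apply_eq, hπ, ← hσ, ← map_add, hπ]
    show g • ((val v : M) : M ⧸ L) = ((val (lin l v + u') : M) : M ⧸ L)
    rw [show val (lin l v + u') = (u : M) * ((l : M) * val v * (l : M)⁻¹) by
      rw [← hlin, ← hu', add_comm, hadd]]
    refine QuotientGroup.eq.2 ?_
    rw [← hul]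
    have hl : (l : M)⁻¹ ∈ L := inv_mem l.2
    simpa [mul_assoc] using hl
  let fS : M →* Cfsg.semiaffineGroup (GaloisField p n) := f.codRestrict _ hfSA
  have hker : fS.ker = K := by
    have hkL : f.ker = L.normalCore := by
      rw [Subgroup.normalCore_eq_ker]
      exact MonoidHom.ker_mulEquiv_comp _ π.symm.permCongrHom
    have hLcop : (Nat.card L).Coprime p := by
      rw [← hL.symm.index_eq_card]
      exact ((Nat.Prime.coprime_iff_not_dvd hp.out).2 hidx).symm
    have hKL : K ≤ L := by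
      by_contra hcon
      have hd : Nat.card (L ⊔ K : Subgroup M) ∣ Nat.card L * Nat.card K := Cores.card_sup_dvd_of_normal L K
      have hcop' : (Nat.card (L ⊔ K : Subgroup M)).Coprime (Nat.card P) := by
        rw [hcard]
        exact ((hLcop.mul_left hKcop).coprime_dvd_left hd).pow_right n
      have h2 : Nat.card (L ⊔ K : Subgroup M) ∣ Nat.card P * Nat.card L :=
        hL.card_mul ▸ Subgroup.card_subgroup_dvd_card _
      have h3 : Nat.card (L ⊔ K : Subgroup M) ∣ Nat.card L := hcop'.dvd_of_dvd_mul_left h2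
      have h4 : L = L ⊔ K := Subgroup.eq_of_le_of_card_ge le_sup_left (Nat.le_of_dvd Nat.card_pos h3)
      exact hcon (h4 ▸ le_sup_right)
    rw [MonoidHom.ker_codRestrict, hkL]
    refine le_antisymm ?_ (Subgroup.normal_le_normalCore.2 hKL)
    rw [hKdef]
    exact Cores.le_pPrimeCore (hLcop.coprime_dvd_left (Subgroup.card_dvd_of_le L.normalCore_le))
  subst hKdef
  let fb : M ⧸ Cfsg.pPrimeCore p M →* Cfsg.semiaffineGroup (GaloisField p n) :=
    QuotientGroup.lift _ fS hker.ge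
  have hfb : Function.Injective fb := by
    rw [← MonoidHom.ker_eq_bot_iff, eq_bot_iff]
    intro q hq
    induction q using QuotientGroup.induction_on with | H g =>
    exact (QuotientGroup.eq_one_iff g).2 (hker ▸ (hq : fS g = 1))
  -- divisors of the order of the quotient
  have hd1 : p ^ n ∣ Nat.card (M ⧸ Cfsg.pPrimeCore p M) := by
    rw [← hcard]
    refine Subgroup.card_dvd_of_injective ((QuotientGroup.mk' (Cfsg.pPrimeCore p M)).comp P.subtype) ?_
    rw [← MonoidHom.ker_eq_bot_iff, eq_bot_iff]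
    intro a ha
    have : (a : M) ∈ Cfsg.pPrimeCore p M ⊓ P := ⟨(QuotientGroup.eq_one_iff _).1 ha, a.2⟩
    rw [hKP, Subgroup.mem_bot] at this
    exact Subgroup.mem_bot.2 (Subtype.ext this)
  have hd2 : p = 2 → Nat.card H ∣ Nat.card (M ⧸ Cfsg.pPrimeCore p M) := by
    rintro rfl
    have hc : ∀ c : (ZMod 2)ˣ, c = 1 := fun c => Subsingleton.elim _ _
    refine Subgroup.card_dvd_of_surjective (Ψ.rangeRestrict.comp (MonoidHom.inr (ZMod 2)ˣ _)) ?_
    rintro ⟨_, ⟨⟨c, q⟩, rfl⟩⟩
    exact ⟨q, Subtype.ext (by rw [hc c]; rfl)⟩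
  have hSA : Nat.card (Cfsg.semiaffineGroup (GaloisField p n)) = (p ^ n - 1) * p ^ n * n := by
    rw [natCard_semiaffine, GaloisField.card p n hn0, Count.card_ringAut (GaloisField.card p n hn0) hn0]
  have hdS : Nat.card (M ⧸ Cfsg.pPrimeCore p M) ∣ Nat.card (Cfsg.semiaffineGroup (GaloisField p n)) :=
    Subgroup.card_dvd_of_injective fb hfb
  rcases hcase with rfl | ⟨rfl, rfl, h155⟩
  · refine Or.inl ⟨rfl, ⟨fb, hfb⟩, ?_⟩
    rintro rfl
    have h7 : 7 ∣ Nat.card H := by
      haveI : Nontrivial V := (Finite.one_lt_card_iff_nontrivial).1 (by rw [hVcard]; norm_num)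
      simpa [hVcard] using TransLinear.card_dvd_of_trans hTrans
    have h56 : 56 ∣ Nat.card (M ⧸ Cfsg.pPrimeCore 2 M) :=
      Nat.Coprime.mul_dvd_of_dvd_of_dvd (by norm_num : Nat.Coprime 8 7) (by simpa using hd1) (h7.trans (hd2 rfl))
    rw [hSA] at hdS
    norm_num at hdS
    obtain ⟨j, hj⟩ := h56
    rw [hj] at hdS
    have hj3 : j ∣ 3 := Nat.dvd_of_mul_dvd_mul_left (by norm_num) (show 56 * j ∣ 56 * 3 by norm_num; exact hdS)
    rcases (Nat.dvd_prime (by norm_num)).1 hj3 with rfl | rfl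
    · refine Or.inr ?_
      have haff : ∀ q, (fb q : Equiv.Perm (GaloisField 2 3)) ∈ Cfsg.affineGroup (GaloisField 2 3) := by
        intro q
        refine mem_affine_of_pow _ (fb q).2 (j := 56) ?_ ?_
        · rw [← SubgroupClass.coe_pow, ← map_pow, ← mul_one 56, ← hj, pow_card_eq_one', map_one]
          rfl
        · rw [Count.card_ringAut (GaloisField.card 2 3 (by norm_num)) (by norm_num)]
          norm_num
      let fa : M ⧸ Cfsg.pPrimeCore 2 M →* Cfsg.affineGroup (GaloisField 2 3) :=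
        ((Cfsg.semiaffineGroup (GaloisField 2 3)).subtype.comp fb).codRestrict _ haff
      refine ⟨MulEquiv.ofBijective fa ((Nat.bijective_iff_injective_and_card _).2 ⟨?_, ?_⟩)⟩
      · intro x y h
        exact hfb (Subtype.ext (congrArg Subtype.val h :))
      · rw [hj, natCard_affine, GaloisField.card 2 3 (by norm_num)]; norm_num
    · refine Or.inl ⟨MulEquiv.ofBijective fb ((Nat.bijective_iff_injective_and_card _).2 ⟨hfb, ?_⟩)⟩
      rw [hj, hSA]; norm_num
  · refine Or.inr ⟨rfl, rfl, ⟨MulEquiv.ofBijective fb ((Nat.bijective_iff_injective_and_card _).2 ⟨hfb, ?_⟩)⟩⟩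
    rw [hSA] at hdS ⊢
    refine Nat.dvd_antisymm hdS ?_
    rw [show (2 ^ 5 - 1) * 2 ^ 5 * 5 = 2 ^ 5 * 155 by norm_num]
    exact Nat.Coprime.mul_dvd_of_dvd_of_dvd (by norm_num) hd1 (h155.trans (hd2 rfl))

universe u

theorem exists_model {M : Type u} [Group M] {p : ℕ} (P : Subgroup M) (hPc : IsMulCommutative P)
    (hPe : ∀ a ∈ P, a ^ p = 1) :
    ∃ (V : AddCommGrpCat.{u}) (_ : Module (ZMod p) V) (val : V → M),
      (∀ a b, val (a + b) = val a * val b) ∧ Function.Injective val ∧ (∀ a, val a ∈ P) ∧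
        ∀ x ∈ P, ∃ a, val a = x := by
  letI : CommGroup ↥P := { (inferInstance : Group P) with mul_comm := hPc.is_comm.comm }
  have h0 : ∀ a : Additive ↥P, p • a = 0 := fun a =>
    congrArg Additive.ofMul (show (Additive.toMul a : P) ^ p = 1 from
      Subtype.ext (by rw [SubgroupClass.coe_pow]; exact hPe _ (Additive.toMul a).2))
  exact ⟨AddCommGrpCat.of (Additive ↥P), AddCommGroup.zmodModule h0,
    fun a => ((Additive.toMul (a : Additive ↥P) : P) : M), fun a b => rfl,
    fun a b h => Additive.toMul.injective (Subtype.ext h), fun a => (Additive.toMul (a : Additive ↥P)).2,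
    fun x hx => ⟨(Additive.ofMul ⟨x, hx⟩ : Additive ↥P), rfl⟩⟩

theorem main {M : Type u} [Group M] [Finite M] {p : ℕ} [hp : Fact p.Prime] (P : Subgroup M) [hPn : P.Normal]
    (hPc : IsMulCommutative P) (hPe : ∀ a ∈ P, a ^ p = 1) (hidx : ¬ p ∣ P.index) {n : ℕ} (hn : 3 ≤ n)
    (hcard : Nat.card P = p ^ n)
    (hconj : ∀ A B : Subgroup M, A ≤ P → B ≤ P → Nat.card A = Nat.card B →
      ∃ g : M, A.map (MulAut.conj g).toMonoidHom = B)
    (hsolv : Group.IsSolvable (M ⧸ Cfsg.pPrimeCore p M)) :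
    (n = 3 ∧ (∃ f : M ⧸ Cfsg.pPrimeCore p M →* ↥(Cfsg.semiaffineGroup (GaloisField p 3)), Function.Injective f) ∧
      (p = 2 → Nonempty (M ⧸ Cfsg.pPrimeCore p M ≃* Cfsg.semiaffineGroup (GaloisField 2 3)) ∨
               Nonempty (M ⧸ Cfsg.pPrimeCore p M ≃* Cfsg.affineGroup (GaloisField 2 3)))) ∨
    (n = 5 ∧ p = 2 ∧ Nonempty (M ⧸ Cfsg.pPrimeCore p M ≃* Cfsg.semiaffineGroup (GaloisField 2 5))) := by
  obtain ⟨V, _, val, hadd, hinj, hmem, hsurj⟩ := exists_model P hPc hPe
  haveI : Finite V := Finite.of_injective val hinj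
  exact core P val hadd hinj hmem hsurj hPe hidx hn hcard hconj hsolv

end Cfsg.Agent.Involutions.EqualOrderConj.Frame
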